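import Cfsg.Agent.Lib.AltCoverComm.Step
import Mathlib.GroupTheory.SpecificGroups.Alternating
import Mathlib.GroupTheory.Perm.Fin
import Mathlib.Algebra.Order.BigOperators.Group.Multiset

/-!
Every even permutation of at least five points is a product of two even permutations of the same cycle
type having at least two transpositions among their cycles.
-/

set_option autoImplicit false

open Equiv Equiv.Perm

namespace CfsgLib.AltCoverComm

/-- A permutation of cycle type `T` factorises into factors of cycle types `S₁` and `S₂`. -/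
def Dec (n : ℕ) (T S₁ S₂ : Multiset ℕ) : Prop :=
  ∃ u v : Perm (Fin n), (u * v).cycleType = T ∧ u.cycleType = S₁ ∧ v.cycleType = S₂

theorem Dec.pad {m n : ℕ} {T S₁ S₂ : Multiset ℕ} (h : Dec m T S₁ S₂) (hmn : m ≤ n) : Dec n T S₁ S₂ := by
  obtain ⟨u, v, hg, hu, hv⟩ := h
  let f : Fin m ↪ Fin n := Fin.castLEEmb hmn
  exact ⟨ext f u, ext f v, by rw [← map_mul, ext_cycleType, hg], by rw [ext_cycleType, hu],
    by rw [ext_cycleType, hv]⟩

theorem Dec.swapped {n : ℕ} {T S₁ S₂ : Multiset ℕ} (h : Dec n T S₁ S₂) : Dec n T S₂ S₁ := by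
  obtain ⟨u, v, hg, hu, hv⟩ := h
  exact ⟨v⁻¹, u⁻¹, by rw [← mul_inv_rev, cycleType_inv, hg], by rw [cycleType_inv, hv],
    by rw [cycleType_inv, hu]⟩

theorem Dec.add {m n : ℕ} {T S₁ S₂ T' S₁' S₂' : Multiset ℕ} (h : Dec m T S₁ S₂)
    (h' : Dec n T' S₁' S₂') : Dec (m + n) (T + T') (S₁ + S₁') (S₂ + S₂') := by
  obtain ⟨u, v, hg, hu, hv⟩ := h
  obtain ⟨u', v', hg', hu', hv'⟩ := h'
  let f : Fin m ↪ Fin (m + n) := Fin.castAddEmb n
  let f' : Fin n ↪ Fin (m + n) := Fin.natAddEmb m
  have hd : ∀ (a : Perm (Fin m)) (b : Perm (Fin n)), Disjoint (ext f a) (ext f' b) := by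
    intro a b y
    by_cases hy : y ∈ Set.range f
    · refine .inr (ext_apply_of_notMem f' b ?_)
      rintro ⟨i, hi⟩
      obtain ⟨j, rfl⟩ := hy
      have h1 := congrArg Fin.val hi
      have hij : (f' i : ℕ) = m + i := rfl
      have hjj : (f j : ℕ) = j := rfl
      have := j.2
      omega
    · exact .inl (ext_apply_of_notMem f a hy)
  refine ⟨ext f u * ext f' u', ext f v * ext f' v', ?_, ?_, ?_⟩
  · rw [(hd v u').commute.symm.mul_mul_mul_comm, ← map_mul, ← map_mul, (hd _ _).cycleType_mul,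
      ext_cycleType, ext_cycleType, hg, hg']
  · rw [(hd _ _).cycleType_mul, ext_cycleType, ext_cycleType, hu, hu']
  · rw [(hd _ _).cycleType_mul, ext_cycleType, ext_cycleType, hv, hv']

theorem Marked.dec {n k : ℕ} {R S₁ S₂ : Multiset ℕ} (D : Marked n k R S₁ S₂) : Dec n (k ::ₘ R) S₁ S₂ :=
  ⟨D.u, D.v, D.hg, D.hu, D.hv⟩

theorem chain {n k : ℕ} {R S₁ S₂ : Multiset ℕ} (D : Marked n k R S₁ S₂) : ∀ j : ℕ,
    ∃ D' : Marked (n + 2 * j) (k + 2 * j) R (Multiset.replicate j 2 + S₁) (Multiset.replicate j 2 + S₂),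
      ∀ y, Side D y → ∃ y', Side D' y'
  | 0 => by
    have h : ∀ S : Multiset ℕ, Multiset.replicate 0 2 + S = S := fun S => zero_add S
    rw [h, h]
    exact ⟨D, fun y hy => ⟨y, hy⟩⟩
  | j + 1 => by
    obtain ⟨D', hD'⟩ := chain D j
    obtain ⟨D'', hD''⟩ := step D'
    rw [Multiset.replicate_succ, Multiset.cons_add, Multiset.cons_add]
    exact ⟨D'', fun y hy => (hD' y hy).elim fun y' hy' => hD'' y' hy'⟩

theorem dec_odd (j : ℕ) (hj : 1 ≤ j) :
    Dec (2 * j + 1) {2 * j + 1} (Multiset.replicate j 2) (Multiset.replicate j 2) := by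
  obtain ⟨i, rfl⟩ := Nat.exists_eq_add_of_le hj
  let D : Marked 3 3 0 {2} {2} := ⟨swap 0 1, swap 1 2, 0, by decide, by decide, by decide +kernel,
    by decide +kernel, by decide +kernel, by decide +kernel⟩
  obtain ⟨D', -⟩ := chain D i
  have h := D'.dec
  rw [show 3 + 2 * i = 2 * (1 + i) + 1 by omega, Multiset.cons_zero,
    show ({2} : Multiset ℕ) = Multiset.replicate 1 2 from rfl, ← Multiset.replicate_add, Nat.add_comm i 1] at h
  exact h

theorem dec_odd_power (j : ℕ) (hj : 1 ≤ j) :
    Dec (2 * j + 1) {2 * j + 1} {2 * j + 1} {2 * j + 1} := by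
  set c := finRotate (2 * j + 1) with hc
  have hct : c.cycleType = {2 * j + 1} := by
    obtain ⟨i, rfl⟩ := Nat.exists_eq_add_of_le hj
    rw [hc, show 2 * (1 + i) + 1 = (2 * i + 1) + 2 by omega, cycleType_finRotate]
  have hcyc : c.IsCycle := by
    rw [← card_cycleType_eq_one, hct, Multiset.card_singleton]
  have hord : orderOf c = 2 * j + 1 := by rw [← lcm_cycleType, hct, Multiset.lcm_singleton, normalize_eq]
  have hpow : (c ^ (j + 1)).cycleType = {2 * j + 1} := by
    have hcop : Nat.Coprime (j + 1) (orderOf c) := by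
      rw [hord, show 2 * j + 1 = j + (j + 1) by omega]
      simp
    rw [((hcyc.pow_iff).mpr hcop).cycleType, support_pow_coprime hcop, ← sum_cycleType, hct,
      Multiset.sum_singleton]
  refine ⟨c ^ (j + 1), c ^ (j + 1), ?_, hpow, hpow⟩
  rw [← pow_add, show j + 1 + (j + 1) = (2 * j + 1) + 1 by omega, pow_succ, orderOf_dvd_iff_pow_eq_one.mp hord.dvd,
    one_mul, hct]

theorem dec_even (a : ℕ) :
    Dec (2 * (a + 1)) {2 * (a + 1)} (Multiset.replicate (a + 1) 2) (Multiset.replicate a 2) := by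
  let D : Marked 2 2 0 {2} 0 := ⟨swap 0 1, 1, 0, by decide, by decide, by decide +kernel,
    by decide +kernel, by decide +kernel, by decide +kernel⟩
  obtain ⟨D', -⟩ := chain D a
  have h := D'.dec
  rw [show 2 + 2 * a = 2 * (a + 1) by omega, Multiset.cons_zero, add_zero,
    show ({2} : Multiset ℕ) = Multiset.replicate 1 2 from rfl, ← Multiset.replicate_add] at h
  exact h

theorem dec_pair (a b : ℕ) :
    Dec (2 * (a + 1) + 2 * (b + 1)) {2 * (a + 1), 2 * (b + 1)} (Multiset.replicate (a + b + 1) 2)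
      (Multiset.replicate (a + b + 1) 2) := by
  have h := (dec_even a).add (dec_even b).swapped
  rw [← Multiset.replicate_add, ← Multiset.replicate_add, show a + 1 + b = a + b + 1 by omega,
    show a + (b + 1) = a + b + 1 by omega, Multiset.singleton_add] at h
  exact h

theorem cycleOf_card_two {n : ℕ} {g : Perm (Fin n)} {y : Fin n} (h : g y ≠ y) (h2 : g (g y) = y) :
    (g.cycleOf y).support.card = 2 := by
  have h1 : g.cycleOf y y = g y := cycleOf_apply_self g y
  have h3 : g.cycleOf y (g.cycleOf y y) = y := by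
    rw [h1, (SameCycle.refl g y).apply_right.cycleOf_apply, h2]
  have he := (isCycle_cycleOf g h).eq_swap_of_apply_apply_eq_self (x := y) (by rw [h1]; exact h) h3
  rw [he, card_support_swap]
  rw [h1]
  exact h.symm

theorem dec_pair_three (a b : ℕ) :
    Dec (2 * (a + 1) + 2 * (b + 1)) {2 * (a + 1), 2 * (b + 1)} (3 ::ₘ Multiset.replicate (a + b) 2)
      (3 ::ₘ Multiset.replicate (a + b) 2) := by
  let D : Marked 4 2 {2} {3} {3} := ⟨List.formPerm [0, 1, 2], List.formPerm [1, 2, 3], 0,
    by decide +kernel, by decide +kernel, by decide +kernel, by decide +kernel, by decide +kernel,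
    by decide +kernel⟩
  obtain ⟨D₁, h₁⟩ := chain D a
  obtain ⟨y, hy1, hy2, hy3, -, -⟩ := h₁ 3 ⟨by decide +kernel, by decide +kernel, by decide +kernel,
    by decide +kernel, by decide +kernel⟩
  have hinv : D₁.v⁻¹ * D₁.u⁻¹ = (D₁.u * D₁.v)⁻¹ := (mul_inv_rev _ _).symm
  let D₂ : Marked (4 + 2 * a) 2 {2 + 2 * a} (Multiset.replicate a 2 + {3})
      (Multiset.replicate a 2 + {3}) :=
    ⟨D₁.v⁻¹, D₁.u⁻¹, y, by rw [Perm.inv_eq_iff_eq, hy1], by
      rw [hinv, ne_eq, Perm.inv_eq_iff_eq]
      exact fun h => hy2 h.symm, by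
      rw [hinv]
      refine cycleOf_card_two (fun h => hy2 ?_) ?_
      · exact (Perm.inv_eq_iff_eq.mp h).symm
      · rw [Perm.inv_eq_iff_eq, Perm.inv_eq_iff_eq, hy3], by
      rw [hinv, cycleType_inv, D₁.hg]
      exact Multiset.cons_swap _ _ _,
      by rw [cycleType_inv, D₁.hv], by rw [cycleType_inv, D₁.hu]⟩
  obtain ⟨D₃, -⟩ := chain D₂ b
  have h := D₃.dec
  rw [show 4 + 2 * a + 2 * b = 2 * (a + 1) + 2 * (b + 1) by omega,
    show 2 + 2 * b = 2 * (b + 1) by omega, show 2 + 2 * a = 2 * (a + 1) by omega, ← add_assoc,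
    ← Multiset.replicate_add, add_comm _ {3}, Multiset.singleton_add, Nat.add_comm b a] at h
  rw [show ({2 * (a + 1), 2 * (b + 1)} : Multiset ℕ) = 2 * (b + 1) ::ₘ {2 * (a + 1)} from Multiset.pair_comm _ _]
  exact h

theorem dec_genus_one (i : ℕ) :
    Dec (5 + 2 * i) {5 + 2 * i} (4 ::ₘ Multiset.replicate i 2) (4 ::ₘ Multiset.replicate i 2) := by
  let D : Marked 5 5 0 {4} {4} := ⟨List.formPerm [0, 1, 2, 3], List.formPerm [1, 2, 3, 4], 0,
    by decide +kernel, by decide +kernel, by decide +kernel, by decide +kernel, by decide +kernel,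
    by decide +kernel⟩
  obtain ⟨D', -⟩ := chain D i
  have h := D'.dec
  rw [Multiset.cons_zero, add_comm _ {4}, Multiset.singleton_add] at h
  exact h

theorem dec_seven : Dec 7 {7} {3, 2, 2} {3, 2, 2} :=
  ⟨swap 0 1 * swap 2 3 * List.formPerm [4, 5, 6], swap 0 2 * swap 1 4 * List.formPerm [3, 5, 6],
    by decide +kernel, by decide +kernel, by decide +kernel⟩

theorem dec_two : Dec 2 0 {2} {2} := ⟨swap 0 1, swap 0 1, by decide +kernel, by decide +kernel, by decide +kernel⟩

theorem dec_klein : Dec 4 {2, 2} {2, 2} {2, 2} :=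
  ⟨swap 0 1 * swap 2 3, swap 0 2 * swap 1 3, by decide +kernel, by decide +kernel, by decide +kernel⟩

/-- A cycle type of an even permutation. -/
def EvenType (T : Multiset ℕ) : Prop := Even (T.sum + Multiset.card T)

theorem EvenType.add {T T' : Multiset ℕ} (h : EvenType T) (h' : EvenType T') : EvenType (T + T') := by
  unfold EvenType at *
  rw [Multiset.sum_add, Multiset.card_add, Nat.even_iff] at *
  omega

theorem evenType_replicate {j : ℕ} (hj : Even j) : EvenType (Multiset.replicate j 2) := by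
  unfold EvenType
  rw [Multiset.sum_replicate, Multiset.card_replicate, smul_eq_mul, Nat.even_iff] at *
  omega

/-- Both factors even. -/
def GoodE (T : Multiset ℕ) : Prop := ∃ S, Dec T.sum T S S ∧ EvenType S

/-- Both factors even with at least two transpositions. -/
def GoodF (n : ℕ) (T : Multiset ℕ) : Prop := ∃ S, Dec n T S S ∧ EvenType S ∧ 2 ≤ S.count 2

theorem GoodE.addE {T T' : Multiset ℕ} (h : GoodE T) (h' : GoodE T') : GoodE (T + T') := by
  obtain ⟨S, hS, hE⟩ := h
  obtain ⟨S', hS', hE'⟩ := h'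
  exact ⟨S + S', by rw [Multiset.sum_add]; exact hS.add hS', hE.add hE'⟩

theorem GoodF.addE {T T' : Multiset ℕ} (h : GoodF T.sum T) (h' : GoodE T') :
    GoodF (T + T').sum (T + T') := by
  obtain ⟨S, hS, hE, hc⟩ := h
  obtain ⟨S', hS', hE'⟩ := h'
  exact ⟨S + S', by rw [Multiset.sum_add]; exact hS.add hS', hE.add hE', by rw [Multiset.count_add]; omega⟩

theorem goodF_odd {j : ℕ} (hj : 1 ≤ j) (he : Even j) : GoodF ({2 * j + 1} : Multiset ℕ).sum {2 * j + 1} := by
  refine ⟨_, by rw [Multiset.sum_singleton]; exact dec_odd j hj, evenType_replicate he, ?_⟩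
  rw [Multiset.count_replicate_self]
  rw [Nat.even_iff] at he
  omega

theorem goodF_pair (a b : ℕ) :
    GoodF ({2 * (a + 1), 2 * (b + 1)} : Multiset ℕ).sum {2 * (a + 1), 2 * (b + 1)} := by
  have hsum : ({2 * (a + 1), 2 * (b + 1)} : Multiset ℕ).sum = 2 * (a + 1) + 2 * (b + 1) := by simp
  rw [hsum]
  rcases Nat.even_or_odd (a + b) with h | h
  · by_cases h0 : a + b = 0
    · obtain ⟨rfl, rfl⟩ : a = 0 ∧ b = 0 := by omega
      exact ⟨_, dec_klein, ⟨3, rfl⟩, le_of_eq (by decide)⟩
    · refine ⟨_, dec_pair_three a b, ?_, ?_⟩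
      · have h2 := EvenType.add (T := {3}) ⟨2, rfl⟩ (evenType_replicate h)
        rwa [Multiset.singleton_add] at h2
      · rw [Multiset.count_cons_of_ne (by norm_num), Multiset.count_replicate_self]
        rw [Nat.even_iff] at h
        omega
  · refine ⟨_, dec_pair a b, evenType_replicate (Odd.add_odd h odd_one), ?_⟩
    rw [Multiset.count_replicate_self]
    obtain ⟨c, hc⟩ := h
    omega

theorem GoodF.toE {T : Multiset ℕ} (h : GoodF T.sum T) : GoodE T :=
  let ⟨S, hS, hE, _⟩ := h
  ⟨S, hS, hE⟩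

/-- A member of an even type is odd, or it has an even partner. -/
theorem exists_partner {T : Multiset ℕ} (hT : EvenType T) {k : ℕ} (hk : k ∈ T) (he : Even k) :
    ∃ l ∈ T.erase k, Even l := by
  by_contra hcon
  push Not at hcon
  have key : ∀ M : Multiset ℕ, (∀ l ∈ M, ¬ Even l) → Even (M.sum + Multiset.card M) := fun M => by
    induction M using Multiset.induction_on with
    | empty => simp
    | cons a M ih =>
      intro h
      have h1 := h a (Multiset.mem_cons_self a M)
      have h2 := ih fun l hl => h l (Multiset.mem_cons_of_mem hl)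
      rw [Multiset.sum_cons, Multiset.card_cons]
      rw [Nat.even_iff] at h1 h2 ⊢
      omega
  have h := key _ hcon
  unfold EvenType at hT
  rw [← Multiset.cons_erase hk, Multiset.sum_cons, Multiset.card_cons] at hT
  rw [Nat.even_iff] at h hT he
  omega

theorem goodE_of_evenType : ∀ (m : ℕ) (T : Multiset ℕ), Multiset.card T = m → (∀ k ∈ T, 2 ≤ k) →
    EvenType T → GoodE T := by
  intro m
  induction m using Nat.strong_induction_on with
  | h m ih =>
    intro T hm h2 hT
    rcases eq_or_ne T 0 with rfl | h0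
    · exact ⟨0, ⟨1, 1, by rw [mul_one, cycleType_one], cycleType_one, cycleType_one⟩, ⟨0, rfl⟩⟩
    obtain ⟨k, hk⟩ := Multiset.exists_mem_of_ne_zero h0
    have hcard := Multiset.card_erase_add_one hk
    rcases Nat.even_or_odd k with hev | ⟨j, rfl⟩
    · obtain ⟨l, hl, hlev⟩ := exists_partner hT hk hev
      have hT' : T = ({k, l} : Multiset ℕ) + (T.erase k).erase l := by
        conv_lhs => rw [← Multiset.cons_erase hk, ← Multiset.cons_erase hl]
        rw [Multiset.insert_eq_cons, Multiset.cons_add, Multiset.singleton_add]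
      have hk2 := h2 k hk
      have hl2 := h2 l (Multiset.mem_of_mem_erase hl)
      obtain ⟨a, rfl⟩ : ∃ a, k = 2 * (a + 1) := ⟨k / 2 - 1, by rw [Nat.even_iff] at hev; omega⟩
      obtain ⟨b, rfl⟩ : ∃ b, l = 2 * (b + 1) := ⟨l / 2 - 1, by rw [Nat.even_iff] at hlev; omega⟩
      have hcard2 := Multiset.card_erase_add_one hl
      rw [hT']
      refine (goodF_pair a b).toE.addE (ih _ (by omega) _ rfl
        (fun x hx => h2 x (Multiset.mem_of_mem_erase (Multiset.mem_of_mem_erase hx))) ?_)
      unfold EvenType at hT ⊢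
      rw [hT', Multiset.sum_add, Multiset.card_add] at hT
      simp only [Multiset.insert_eq_cons, Multiset.sum_cons, Multiset.sum_singleton, Multiset.card_cons,
        Multiset.card_singleton] at hT
      rw [Nat.even_iff] at *
      omega
    · have hT' : T = ({2 * j + 1} : Multiset ℕ) + T.erase (2 * j + 1) := by
        conv_lhs => rw [← Multiset.cons_erase hk, ← Multiset.singleton_add]
      have hj : 1 ≤ j := by have := h2 _ hk; omega
      rw [hT']
      refine GoodE.addE ?_ (ih _ (by omega) _ rfl (fun x hx => h2 x (Multiset.mem_of_mem_erase hx)) ?_)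
      · rcases Nat.even_or_odd j with he | ho
        · exact (goodF_odd hj he).toE
        · refine ⟨{2 * j + 1}, by rw [Multiset.sum_singleton]; exact dec_odd_power j hj, ?_⟩
          exact ⟨j + 1, by rw [Multiset.sum_singleton, Multiset.card_singleton]; omega⟩
      · unfold EvenType at hT ⊢
        rw [hT', Multiset.sum_add, Multiset.card_add, Multiset.sum_singleton, Multiset.card_singleton] at hT
        rw [Nat.even_iff] at *
        omega

theorem GoodF.pad {m n : ℕ} {T : Multiset ℕ} (h : GoodF m T) (hmn : m ≤ n) : GoodF n T :=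
  let ⟨S, hS, hE, hc⟩ := h
  ⟨S, hS.pad hmn, hE, hc⟩

theorem goodF_of_evenType {n : ℕ} (hn : 5 ≤ n) (T : Multiset ℕ) (h2 : ∀ k ∈ T, 2 ≤ k) (hT : EvenType T)
    (hsum : T.sum ≤ n) : GoodF n T := by
  have rest : ∀ A B : Multiset ℕ, T = A + B → EvenType A → GoodE B := fun A B hAB hA => by
    refine goodE_of_evenType _ B rfl (fun x hx => h2 x (by rw [hAB]; exact Multiset.mem_add.mpr (.inr hx))) ?_
    unfold EvenType at hT hA ⊢
    rw [hAB, Multiset.sum_add, Multiset.card_add] at hT
    rw [Nat.even_iff] at *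
    omega
  by_cases hA : ∃ k ∈ T, Even k
  · obtain ⟨k, hk, hev⟩ := hA
    obtain ⟨l, hl, hlev⟩ := exists_partner hT hk hev
    have hT' : T = ({k, l} : Multiset ℕ) + (T.erase k).erase l := by
      conv_lhs => rw [← Multiset.cons_erase hk, ← Multiset.cons_erase hl]
      rw [Multiset.insert_eq_cons, Multiset.cons_add, Multiset.singleton_add]
    have hk2 := h2 k hk
    have hl2 := h2 l (Multiset.mem_of_mem_erase hl)
    obtain ⟨a, rfl⟩ : ∃ a, k = 2 * (a + 1) := ⟨k / 2 - 1, by rw [Nat.even_iff] at hev; omega⟩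
    obtain ⟨b, rfl⟩ : ∃ b, l = 2 * (b + 1) := ⟨l / 2 - 1, by rw [Nat.even_iff] at hlev; omega⟩
    have h := (goodF_pair a b).addE (rest _ _ hT' (by
      simp only [EvenType, Multiset.insert_eq_cons, Multiset.sum_cons, Multiset.sum_singleton,
        Multiset.card_cons, Multiset.card_singleton, Nat.even_iff]
      omega))
    rw [← hT'] at h
    exact h.pad hsum
  push Not at hA
  by_cases hB : ∃ j, 2 * j + 1 ∈ T ∧ Even j
  · obtain ⟨j, hk, hj⟩ := hB
    have hj1 : 1 ≤ j := by have := h2 _ hk; omega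
    have hT' : T = ({2 * j + 1} : Multiset ℕ) + T.erase (2 * j + 1) := by
      conv_lhs => rw [← Multiset.cons_erase hk, ← Multiset.singleton_add]
    have h := (goodF_odd hj1 hj).addE (rest _ _ hT' ⟨j + 1, by
      rw [Multiset.sum_singleton, Multiset.card_singleton]; omega⟩)
    rw [← hT'] at h
    exact h.pad hsum
  push Not at hB
  rcases eq_or_ne T 0 with rfl | h0
  · have h := dec_two.add dec_two
    rw [add_zero] at h
    exact ⟨_, h.pad (by omega), ⟨3, rfl⟩, le_of_eq (by decide)⟩
  obtain ⟨k, hk⟩ := Multiset.exists_mem_of_ne_zero h0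
  obtain ⟨j, rfl⟩ := Nat.not_even_iff_odd.mp (hA k hk)
  have hj : Odd j := Nat.not_even_iff_odd.mp (hB j hk)
  have hj1 : 1 ≤ j := hj.pos
  by_cases h1 : T.erase (2 * j + 1) = 0
  · have hT1 : T = {2 * j + 1} := by rw [← Multiset.cons_erase hk, h1, Multiset.cons_zero]
    subst hT1
    rw [Multiset.sum_singleton] at hsum
    by_cases hj3 : j = 1
    · subst hj3
      have h := (dec_odd 1 le_rfl).add dec_two
      rw [add_zero] at h
      exact ⟨_, h.pad hn, ⟨3, rfl⟩, le_of_eq (by decide)⟩
    · by_cases hj7 : j = 3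
      · subst hj7
        exact ⟨_, dec_seven.pad (by omega), ⟨5, rfl⟩, le_of_eq (by decide)⟩
      · obtain ⟨c, hc⟩ := hj
        have hi : Odd (j - 2) := ⟨c - 1, by omega⟩
        refine ⟨4 ::ₘ Multiset.replicate (j - 2) 2, ?_, ?_, ?_⟩
        · have h := dec_genus_one (j - 2)
          rw [show 5 + 2 * (j - 2) = 2 * j + 1 by omega] at h
          exact h.pad hsum
        · simp only [EvenType, Multiset.sum_cons, Multiset.card_cons, Multiset.sum_replicate,
            Multiset.card_replicate, smul_eq_mul, Nat.even_iff]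
          rw [Nat.odd_iff] at hi
          omega
        · rw [Multiset.count_cons_of_ne (by norm_num), Multiset.count_replicate_self]
          omega
  · obtain ⟨l, hl⟩ := Multiset.exists_mem_of_ne_zero h1
    obtain ⟨i, rfl⟩ := Nat.not_even_iff_odd.mp (hA l (Multiset.mem_of_mem_erase hl))
    have hi : Odd i := Nat.not_even_iff_odd.mp (hB i (Multiset.mem_of_mem_erase hl))
    have hT' : T = ({2 * j + 1, 2 * i + 1} : Multiset ℕ) + (T.erase (2 * j + 1)).erase (2 * i + 1) := by
      conv_lhs => rw [← Multiset.cons_erase hk, ← Multiset.cons_erase hl]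
      rw [Multiset.insert_eq_cons, Multiset.cons_add, Multiset.singleton_add]
    have hF : GoodF ({2 * j + 1, 2 * i + 1} : Multiset ℕ).sum {2 * j + 1, 2 * i + 1} := by
      have h := (dec_odd j hj1).add (dec_odd i hi.pos)
      rw [← Multiset.replicate_add, Multiset.singleton_add] at h
      refine ⟨_, by simpa using h, evenType_replicate (hj.add_odd hi), ?_⟩
      rw [Multiset.count_replicate_self]
      have := hi.pos
      omega
    have h := hF.addE (rest _ _ hT' (by
      simp only [EvenType, Multiset.insert_eq_cons, Multiset.sum_cons, Multiset.sum_singleton,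
        Multiset.card_cons, Multiset.card_singleton, Nat.even_iff]
      omega))
    rw [← hT'] at h
    exact h.pad hsum

theorem sign_eq_one_of_evenType {α : Type*} [Fintype α] [DecidableEq α] {g : Perm α}
    (h : EvenType g.cycleType) : sign g = 1 := by
  rw [sign_of_cycleType]
  exact h.neg_one_pow

theorem evenType_of_sign_eq_one {α : Type*} [Fintype α] [DecidableEq α] {g : Perm α}
    (h : sign g = 1) : EvenType g.cycleType := by
  rw [sign_of_cycleType] at h
  rcases Nat.even_or_odd (g.cycleType.sum + Multiset.card g.cycleType) with he | ho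
  · exact he
  · rw [ho.neg_one_pow] at h
    exact absurd h (by decide)

/-- Every even permutation is a product of two even permutations of one cycle type with two transpositions. -/
theorem exists_decomp {n : ℕ} (hn : 5 ≤ n) {g : Perm (Fin n)} (hg : sign g = 1) :
    ∃ u v : Perm (Fin n), g = u * v ∧ sign u = 1 ∧ u.cycleType = v.cycleType ∧ 2 ≤ u.cycleType.count 2 := by
  obtain ⟨S, ⟨u, v, hguv, hu, hv⟩, hE, hc⟩ := goodF_of_evenType hn g.cycleType
    (fun k hk => two_le_of_mem_cycleType hk) (evenType_of_sign_eq_one hg)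
    (by rw [sum_cycleType]; exact (Finset.card_le_univ _).trans_eq (Fintype.card_fin n))
  obtain ⟨c, hconj⟩ := isConj_iff.mp (isConj_iff_cycleType_eq.mpr hguv)
  have hu' : (c * u * c⁻¹).cycleType = S := by rw [cycleType_conj, hu]
  refine ⟨c * u * c⁻¹, c * v * c⁻¹, ?_, sign_eq_one_of_evenType (hu'.symm ▸ hE), ?_, hu'.symm ▸ hc⟩
  · rw [← hconj]; group
  · rw [hu', cycleType_conj, hv]

end CfsgLib.AltCoverComm
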