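import Cfsg.Agent.Lib.AltCoverComm.Decomp
import Cfsg.Agent.Lib.Schur.AltDegree
import Cfsg.Agent.Lib.DoubleCover.Small

/-!
Commutators in the double cover of an alternating group.
-/

set_option autoImplicit false

open Equiv Equiv.Perm Subgroup
open scoped commutatorElement

namespace CfsgLib.AltCoverComm

open CfsgLib.SchurAltDeg

variable {n : ℕ} {G : Type*} [Group G]

/-- Two elements exchanged by a transposition have an even conjugator. -/
theorem exists_even_conj {u v : Perm (Fin n)} (h : u.cycleType = v.cycleType) {a b : Fin n} (hab : a ≠ b)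
    (hu : Commute (swap a b) u) : ∃ c : Perm (Fin n), sign c = 1 ∧ c * u * c⁻¹ = v := by
  obtain ⟨c, hc⟩ := isConj_iff.mp (isConj_iff_cycleType_eq.mpr h)
  rcases Int.units_eq_one_or (sign c) with hs | hs
  · exact ⟨c, hs, hc⟩
  · refine ⟨c * swap a b, by rw [map_mul, hs, sign_swap hab]; decide, ?_⟩
    rw [mul_inv_rev, ← mul_assoc, mul_assoc c (swap a b) u, hu.eq, ← mul_assoc c u,
      mul_assoc (c * u), mul_inv_cancel, mul_one, hc]

/-- A cycle type with two twos gives a double transposition factor. -/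
theorem exists_four_of_count {u : Perm (Fin n)} (h : 2 ≤ u.cycleType.count 2) :
    ∃ a b c d : Fin n, a ≠ b ∧ a ≠ c ∧ a ≠ d ∧ b ≠ c ∧ b ≠ d ∧ c ≠ d ∧
      u a = b ∧ u b = a ∧ u c = d ∧ u d = c := by
  rw [cycleType_def, Multiset.count_map] at h
  obtain ⟨c₁, h₁, c₂, h₂, hne⟩ := (Finset.one_lt_card (s := u.cycleFactorsFinset.filter
    fun a => 2 = (Finset.card ∘ support) a)).mp (by rw [Finset.card_def, Finset.filter_val]; omega)
  rw [Finset.mem_filter] at h₁ h₂
  have key : ∀ c ∈ u.cycleFactorsFinset, 2 = (Finset.card ∘ support) c →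
      ∃ a b, a ≠ b ∧ c = swap a b ∧ u a = b ∧ u b = a := by
    intro c hc hc2
    obtain ⟨a, b, hab, rfl⟩ := card_support_eq_two.mp hc2.symm
    have hm := (mem_cycleFactorsFinset_iff.mp hc).2
    refine ⟨a, b, hab, rfl, ?_, ?_⟩
    · rw [← hm a (mem_support.mpr (by rw [swap_apply_left]; exact hab.symm)), swap_apply_left]
    · rw [← hm b (mem_support.mpr (by rw [swap_apply_right]; exact hab)), swap_apply_right]
  obtain ⟨a, b, hab, rfl, hua, hub⟩ := key c₁ h₁.1 h₁.2
  obtain ⟨c, d, hcd, rfl, huc, hud⟩ := key c₂ h₂.1 h₂.2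
  have hdis := cycleFactorsFinset_pairwise_disjoint u h₁.1 h₂.1 hne
  have hd := disjoint_iff_disjoint_support.mp hdis
  rw [support_swap hab, support_swap hcd] at hd
  simp only [Finset.disjoint_insert_left, Finset.disjoint_singleton_left, Finset.mem_insert,
    Finset.mem_singleton, not_or] at hd
  exact ⟨a, b, c, d, hab, hd.1.1, hd.1.2, hd.2.1, hd.2.2, hcd, hua, hub, huc, hud⟩

theorem commute_swap_of_fixed {w : Perm (Fin n)} {a b : Fin n} (ha : w a = a) (hb : w b = b) :
    Commute (swap a b) w := by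
  refine (Commute.symm ?_)
  show w * swap a b = swap a b * w
  rw [mul_swap_eq_swap_mul, ha, hb]

variable (hn : 5 ≤ n) (φ : G →* Perm (Fin n)) (hr : φ.range = alternatingGroup (Fin n))
  (hker : φ.ker = center G) (hZ : Nat.card (center G) = 2)

section
include hker hZ

theorem sq_eq_one {c : G} (hc : φ c = 1) : c * c = 1 := by
  have hm : c ∈ center G := hker ▸ MonoidHom.mem_ker.mpr hc
  have := pow_card_eq_one' (x := (⟨c, hm⟩ : center G))
  rw [hZ, pow_two] at this
  exact congrArg Subtype.val this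

/-- Lifts of an element of order three and of an element commuting with it commute. -/
theorem commute_of_cube {T W : G} (h3 : φ T ^ 3 = 1) (h : Commute (φ T) (φ W)) : Commute T W := by
  set c := ⁅T, W⁆ with hc
  have hc1 : φ c = 1 := by rw [hc, map_commutatorElement, commutatorElement_eq_one_iff_commute]; exact h
  have hcc : c ∈ center G := hker ▸ MonoidHom.mem_ker.mpr hc1
  have hcomm : ∀ g, g * c = c * g := mem_center_iff.mp hcc
  have hstep : T * W = c * W * T := by rw [hc, commutatorElement_def]; group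
  have hT3 : T ^ 3 ∈ center G := hker ▸ MonoidHom.mem_ker.mpr (by rw [map_pow, h3])
  have e3 : T ^ 3 * W = c * c * c * W * T ^ 3 := by
    calc T ^ 3 * W = T * (T * (T * W)) := by rw [pow_succ, pow_two]; group
      _ = T * (T * c) * (W * T) := by rw [hstep]; group
      _ = c * (T * (T * W)) * T := by
          rw [hcomm T, ← mul_assoc T c T, hcomm T]; group
      _ = c * (T * c) * (W * T * T) := by rw [hstep]; group
      _ = c * c * (T * W) * T * T := by rw [hcomm T]; group
      _ = c * c * c * W * T ^ 3 := by rw [hstep, pow_succ, pow_two]; group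
  rw [← mem_center_iff.mp hT3 W, sq_eq_one φ hker hZ hc1, one_mul] at e3
  have hc0 : c = 1 := by
    have := mul_right_cancel e3
    simpa using this.symm
  exact commutatorElement_eq_one_iff_commute.mp hc0

end

include hn hr hker hZ

/-- Lifts of double transpositions in a four group do not commute. -/
theorem not_commute_four [Finite G] (hperf : commutator G = ⊤) {a b c d : Fin n} (h1 : a ≠ b) (h2 : a ≠ c)
    (h3 : a ≠ d) (h4 : b ≠ c) (h5 : b ≠ d) (h6 : c ≠ d) {P R : G} (hP : φ P = D a b c d)
    (hR : φ R = D a c b d) : ¬ Commute P R := by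
  intro hPR
  have hn4 : 4 ≤ n := by omega
  have hc : φ.ker ≤ center G := hker.le
  have hpt : ∀ i j, i < n → j < n → i ≠ j → pt hn4 i ≠ pt hn4 j := fun i j => pt_ne hn4
  have lift : ∀ g ∈ alternatingGroup (Fin n), ∃ X, φ X = g := fun g hg => MonoidHom.mem_range.mp (hr ▸ hg)
  -- the configuration at the first four points
  have hw : ∀ P' Q' : G, φ P' = D (pt hn4 0) (pt hn4 1) (pt hn4 2) (pt hn4 3) →
      φ Q' = D (pt hn4 1) (pt hn4 2) (pt hn4 0) (pt hn4 3) → Commute P' Q' := by
    intro P' Q' hP' hQ'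
    obtain ⟨g, hg⟩ := exists_even (fun i : Fin 4 => pt hn4 i) ![a, b, c, d]
      (fun i j h => by
        by_contra hij
        exact pt_ne hn4 (by omega) (by omega) (fun e => hij (Fin.ext e)) h)
      (fun i j h => by fin_cases i <;> fin_cases j <;> simp_all)
    have g0 : g (pt hn4 0) = a := hg 0
    have g1 : g (pt hn4 1) = b := hg 1
    have g2 : g (pt hn4 2) = c := hg 2
    have g3 : g (pt hn4 3) = d := hg 3
    rcases Int.units_eq_one_or (sign g) with hs | hs
    · obtain ⟨X, rfl⟩ := lift g hs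
      have hfour := four_mul h1 h2 h3 h4 h5 h6
      refine commute_congr hc (commute_conj ((Commute.refl P).inv_right.mul_right hPR) X⁻¹) ?_ ?_
      · rw [map_mul, map_mul, inv_inv, map_inv, hP, hP', ← g0, ← g1, ← g2, ← g3, ← D_conj]; group
      · rw [map_mul, map_mul, map_mul, inv_inv, map_inv, map_inv, hP, hR, hQ', ← hfour, inv_mul_cancel_left,
          ← g0, ← g1, ← g2, ← g3, ← D_conj]; group
    · obtain ⟨X, hX⟩ := lift (swap a b * g) (by
        rw [mem_alternatingGroup, map_mul, sign_swap h1, hs]; rfl)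
      have e0 : φ X (pt hn4 0) = b := by rw [hX, mul_apply, g0, swap_apply_left]
      have e1 : φ X (pt hn4 1) = a := by rw [hX, mul_apply, g1, swap_apply_right]
      have e2 : φ X (pt hn4 2) = c := by
        rw [hX, mul_apply, g2, swap_apply_of_ne_of_ne h2.symm h4.symm]
      have e3 : φ X (pt hn4 3) = d := by
        rw [hX, mul_apply, g3, swap_apply_of_ne_of_ne h3.symm h5.symm]
      refine commute_congr hc (commute_conj hPR X⁻¹) ?_ ?_
      · rw [map_mul, map_mul, inv_inv, map_inv, hP, hP',
          show D a b c d = D b a c d by rw [D, D, swap_comm a b], ← e0, ← e1, ← e2, ← e3, ← D_conj]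
        group
      · rw [map_mul, map_mul, inv_inv, map_inv, hR, hQ', ← e0, ← e1, ← e2, ← e3, ← D_conj]
        group
  have hzne : ∃ z ∈ center G, z ≠ 1 := by
    have : Nontrivial (center G) := Finite.one_lt_card_iff_nontrivial.1 (by omega)
    obtain ⟨⟨z, hz⟩, hz1⟩ := exists_ne (1 : center G)
    exact ⟨z, hz, fun h => hz1 (Subtype.ext h)⟩
  by_cases hn7 : n ≤ 7
  · -- an involution outside the centre
    have hns : ∀ L : Subgroup G, ¬ (center G).IsComplement' L := by
      intro L hL
      obtain ⟨z, hz, hz1⟩ := hzne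
      have hall : ∀ g : G, ∃ y ∈ center G, ∃ l ∈ L, y * l = g := fun g => by
        obtain ⟨⟨⟨y, hy⟩, ⟨l, hl⟩⟩, hyl⟩ := hL.2 g
        exact ⟨y, hy, l, hl, hyl⟩
      have hle : commutator G ≤ L := by
        rw [commutator_def, commutator_le]
        intro x _ y _
        obtain ⟨x', hx', l, hl, rfl⟩ := hall x
        obtain ⟨y', hy', m, hm, rfl⟩ := hall y
        have e : ⁅x' * l, y' * m⁆ = ⁅l, m⁆ := by
          have a1 : ∀ w, x' * w * x'⁻¹ = w := fun w => by
            rw [← mem_center_iff.mp hx' w, mul_inv_cancel_right]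
          have a2 : ∀ w, y' * w * y'⁻¹ = w := fun w => by
            rw [← mem_center_iff.mp hy' w, mul_inv_cancel_right]
          simp only [commutatorElement_def, mul_inv_rev]
          calc x' * l * (y' * m) * (l⁻¹ * x'⁻¹) * (m⁻¹ * y'⁻¹)
              = x' * (l * (y' * m) * l⁻¹) * x'⁻¹ * (m⁻¹ * y'⁻¹) := by group
            _ = l * (y' * (m * (l⁻¹ * m⁻¹)) * y'⁻¹) := by rw [a1]; group
            _ = l * m * l⁻¹ * m⁻¹ := by rw [a2]; group
        rw [e]
        exact L.mul_mem (L.mul_mem (L.mul_mem hl hm) (L.inv_mem hl)) (L.inv_mem hm)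
      have hzL : z ∈ L := hle (hperf ▸ mem_top z)
      exact hz1 (disjoint_def.mp hL.disjoint hz hzL)
    have hH : Cfsg.IsNonsplitDoubleCover G (alternatingGroup (Fin n)) :=
      ⟨hZ, ⟨((QuotientGroup.quotientMulEquivOfEq hker).symm.trans
        (QuotientGroup.quotientKerEquivRange φ)).trans (MulEquiv.subgroupCongr hr)⟩, hns⟩
    have m01 := hpt 0 1 (by omega) (by omega) (by omega)
    have m02 := hpt 0 2 (by omega) (by omega) (by omega)
    have m03 := hpt 0 3 (by omega) (by omega) (by omega)
    have m12 := hpt 1 2 (by omega) (by omega) (by omega)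
    have m13 := hpt 1 3 (by omega) (by omega) (by omega)
    have m23 := hpt 2 3 (by omega) (by omega) (by omega)
    obtain ⟨T, hT⟩ := lift _ (gen_mem hn4 (show 0 + 2 < n by omega))
    obtain ⟨X, hX⟩ := lift _ (D_mem m01 m23)
    have hY : φ (T * X * T⁻¹) = D (pt hn4 1) (pt hn4 2) (pt hn4 0) (pt hn4 3) := by
      rw [map_mul, map_mul, map_inv, hT, hX, D_conj, gen_zero]
      simp only [Perm.mul_apply, swap_apply_def]
      simp [m01, m02, m01.symm, m03.symm, m13.symm, m23.symm, m02.symm, m12.symm]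
    obtain ⟨X', e, e'⟩ := exists_sq_one hc (X := X) (T := T)
      (by rw [hX]; exact D_mul_self m02 m03 m12 m13) (hw _ _ hX hY) (by
        rw [map_mul, map_mul, map_inv, hT, hY, hX, D_conj, gen_zero, four_mul m01 m02 m03 m12 m13 m23]
        simp only [Perm.mul_apply, swap_apply_def]
        simp [m01, m02, m01.symm, m03.symm, m13.symm, m23.symm, m02.symm, m12.symm, D, swap_comm])
    have hne : φ X' ≠ 1 := by
      rw [e, hX]
      intro h
      have := DFunLike.congr_fun h (pt hn4 0)
      simp [D, Perm.mul_apply, swap_apply_def, m02, m03, m01.symm] at this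
    have ho : orderOf X' = 2 :=
      orderOf_eq_prime (by rw [pow_two]; exact e') fun h => hne (by rw [h, map_one])
    exact hne (MonoidHom.mem_ker.mp (hker ▸ CfsgLib.DoubleCover.involution_mem_center hn7 hH ho))
  · have h := CfsgLib.SchurAltDeg.main hn4 (by omega) (by omega) φ hr hc (hperf ▸ le_top) hw
    obtain ⟨z, hz, hz1⟩ := hzne
    rw [← hker, h, mem_bot] at hz
    exact hz1 hz

/-- An element with two transposition factors is conjugate to both lifts. -/
theorem exists_conj_neg [Finite G] (hperf : commutator G = ⊤) {u : Perm (Fin n)} {U : G} (hU : φ U = u)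
    (hc : 2 ≤ u.cycleType.count 2) :
    (∃ X : G, φ (X * U * X⁻¹) = u ∧ X * U * X⁻¹ ≠ U) ∧ ∃ a b : Fin n, a ≠ b ∧ Commute (swap a b) u := by
  obtain ⟨a, b, c, d, h1, h2, h3, h4, h5, h6, hua, hub, huc, hud⟩ := exists_four_of_count hc
  have hswap : Commute (swap a b) u := by
    refine Commute.symm ?_
    show u * swap a b = swap a b * u
    rw [mul_swap_eq_swap_mul, hua, hub, swap_comm]
  refine ⟨?_, a, b, h1, hswap⟩
  have lift : ∀ g ∈ alternatingGroup (Fin n), ∃ X, φ X = g := fun g hg => MonoidHom.mem_range.mp (hr ▸ hg)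
  obtain ⟨P, hP⟩ := lift _ (D_mem (a := a) (b := b) (c := c) (d := d) h1 h6)
  obtain ⟨X, hX⟩ := lift _ (D_mem (a := a) (b := c) (c := b) (d := d) h2 h5)
  set W := P⁻¹ * U with hW
  have hDinv : (D a b c d)⁻¹ = D a b c d := inv_eq_of_mul_eq_one_left (D_mul_self h2 h3 h4 h5)
  have wa : φ W a = a := by
    rw [hW, map_mul, map_inv, hP, hU, hDinv, mul_apply, hua, D, mul_apply,
      swap_apply_of_ne_of_ne h4 h5, swap_apply_right]
  have wb : φ W b = b := by
    rw [hW, map_mul, map_inv, hP, hU, hDinv, mul_apply, hub, D, mul_apply,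
      swap_apply_of_ne_of_ne h2 h3, swap_apply_left]
  have wc : φ W c = c := by
    rw [hW, map_mul, map_inv, hP, hU, hDinv, mul_apply, huc, D, mul_apply, swap_apply_right,
      swap_apply_of_ne_of_ne h2.symm h4.symm]
  have wd : φ W d = d := by
    rw [hW, map_mul, map_inv, hP, hU, hDinv, mul_apply, hud, D, mul_apply, swap_apply_left,
      swap_apply_of_ne_of_ne h3.symm h5.symm]
  -- lifts of the two three cycles
  have hthree : ∀ x y z : Fin n, x ≠ y → x ≠ z → y ≠ z → φ W x = x → φ W y = y → φ W z = z →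
      ∀ T : G, φ T = swap x y * swap y z → Commute T W := by
    intro x y z hxy hxz hyz hx hy hz T hT
    refine commute_of_cube φ hker hZ ?_ ?_
    · rw [hT, swap_comm x y]
      have h := isThreeCycle_swap_mul_swap_same hxy.symm hyz hxz
      rw [← h.orderOf, pow_orderOf_eq_one]
    · rw [hT]
      exact (commute_swap_of_fixed hx hy).mul_left (commute_swap_of_fixed hy hz)
  obtain ⟨T1, hT1⟩ := lift (swap a c * swap c b) (by
    rw [mem_alternatingGroup, map_mul, sign_swap h2, sign_swap h4.symm]; rfl)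
  obtain ⟨T2, hT2⟩ := lift (swap c b * swap b d) (by
    rw [mem_alternatingGroup, map_mul, sign_swap h4.symm, sign_swap h5]; rfl)
  have hcW : Commute (T1 * T2) W :=
    (hthree a c b h2 h1 h4.symm wa wc wb T1 hT1).mul_left (hthree c b d h4.symm h6 h5 wc wb wd T2 hT2)
  have hX12 : φ (T1 * T2) = φ X := by
    rw [map_mul, hT1, hT2, hX, D, mul_assoc, ← mul_assoc (swap c b), swap_mul_self, one_mul]
  have hXW : Commute X W := commute_congr hker.le hcW hX12 rfl
  have hXP : ¬ Commute X P := fun h => not_commute_four hn φ hr hker hZ hperf h1 h2 h3 h4 h5 h6 hP hX h.symm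
  have hUPW : U = P * W := by rw [hW, mul_inv_cancel_left]
  refine ⟨X, ?_, fun h => hXP ?_⟩
  · have hcomm : Commute (φ X) (φ U) := by
      rw [hUPW, map_mul]
      refine Commute.mul_right ?_ (hXW.map φ)
      rw [hX, hP]
      show D a c b d * D a b c d = D a b c d * D a c b d
      have e := D_conj (a := a) (b := b) (c := c) (d := d) (D a c b d)
      have hDD : D a c b d * D a b c d * (D a c b d)⁻¹ = D a b c d := by
        rw [e]
        have da : D a c b d a = c := by
          rw [D, mul_apply, swap_apply_of_ne_of_ne h1 h3, swap_apply_left]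
        have db : D a c b d b = d := by
          rw [D, mul_apply, swap_apply_left, swap_apply_of_ne_of_ne h3.symm h6.symm]
        have dc : D a c b d c = a := by
          rw [D, mul_apply, swap_apply_of_ne_of_ne h4.symm h6, swap_apply_right]
        have dd : D a c b d d = b := by
          rw [D, mul_apply, swap_apply_right, swap_apply_of_ne_of_ne h1.symm h4]
        rw [da, db, dc, dd, D, D, swap_comm_disj h2.symm h4.symm h3.symm h5.symm]
      exact mul_inv_eq_iff_eq_mul.mp hDD
    rw [map_mul, map_mul, map_inv, hcomm.eq, mul_inv_cancel_right, hU]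
  · have hXU : Commute X U := mul_inv_eq_iff_eq_mul.mp h
    have e : Commute X (U * W⁻¹) := hXU.mul_right hXW.inv_right
    rwa [hUPW, mul_inv_cancel_right] at e

/-- Every element of the double cover of an alternating group is a commutator. -/
theorem exists_commutator_eq [Finite G] (hperf : commutator G = ⊤) (g : G) :
    ∃ A B : G, A * B * A⁻¹ * B⁻¹ = g := by
  have lift : ∀ x ∈ alternatingGroup (Fin n), ∃ X, φ X = x := fun x hx => MonoidHom.mem_range.mp (hr ▸ hx)
  have hg : φ g ∈ alternatingGroup (Fin n) := hr ▸ MonoidHom.mem_range.mpr ⟨g, rfl⟩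
  obtain ⟨u, v, huv, hus, htype, hcount⟩ := exists_decomp hn (mem_alternatingGroup.mp hg)
  obtain ⟨U, hU⟩ := lift u (mem_alternatingGroup.mpr hus)
  obtain ⟨⟨X, hX, hne⟩, a, b, hab, hswap⟩ := exists_conj_neg hn φ hr hker hZ hperf hU hcount
  obtain ⟨c, hcs, hc⟩ := exists_even_conj (u := u⁻¹) (v := v) (by rw [cycleType_inv, htype]) hab
    hswap.inv_right
  obtain ⟨Y, hY⟩ := lift c (mem_alternatingGroup.mpr hcs)
  have hVim : φ (Y * U⁻¹ * Y⁻¹) = v := by rw [map_mul, map_mul, map_inv, map_inv, hY, hU, hc]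
  set V := Y * U⁻¹ * Y⁻¹ with hV
  -- the preimage of the target is one of two products
  have hker2 : ∀ x : G, φ x = u → x = U ∨ x = X * U * X⁻¹ := by
    intro x hx
    by_contra hcon
    rw [not_or] at hcon
    have m : ∀ y, φ y = u → y * U⁻¹ ∈ center G := fun y hy =>
      hker ▸ MonoidHom.mem_ker.mpr (by rw [map_mul, map_inv, hy, hU, mul_inv_cancel])
    have hcard : (Nat.card (center G)) = 2 := hZ
    obtain ⟨p, q, hpq, hu⟩ := Nat.card_eq_two_iff.1 hcard
    have h3 := fun w : center G => Set.eq_univ_iff_forall.1 hu w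
    simp only [Set.mem_insert_iff, Set.mem_singleton_iff] at h3
    have n1 : (⟨_, m _ hx⟩ : center G) ≠ 1 := fun e => hcon.1 (mul_inv_eq_one.mp (congrArg Subtype.val e))
    have n2 : (⟨_, m _ hX⟩ : center G) ≠ 1 := fun e => hne (mul_inv_eq_one.mp (congrArg Subtype.val e))
    have n3 : (⟨_, m _ hx⟩ : center G) ≠ ⟨_, m _ hX⟩ := fun e =>
      hcon.2 (mul_right_cancel (congrArg Subtype.val e))
    rcases h3 1 with h | h <;> rcases h3 ⟨_, m _ hx⟩ with h' | h' <;>
      rcases h3 ⟨_, m _ hX⟩ with h'' | h'' <;> simp_all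
  rcases hker2 (g * V⁻¹) (by rw [map_mul, map_inv, hVim, huv, mul_inv_cancel_right]) with h | h
  · exact ⟨U, Y, by rw [show g = g * V⁻¹ * V by group, h, hV]; group⟩
  · exact ⟨X * U * X⁻¹, Y * X⁻¹, by rw [show g = g * V⁻¹ * V by group, h, hV]; group⟩

end CfsgLib.AltCoverComm
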