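import Mathlib.GroupTheory.Perm.Cycle.Concrete
import Mathlib.GroupTheory.Perm.Cycle.Type
import Mathlib.Logic.Equiv.Fintype

/-!
Enlarging a cycle in a factorisation `g = u * v` of a permutation.
-/

set_option autoImplicit false

open Equiv Equiv.Perm

namespace CfsgLib.AltCoverComm

section Insert

variable {α : Type*} [Fintype α] [DecidableEq α]

/-- Inserting a fixed point into a cycle. -/
theorem insert_point {g : Perm α} {x p : α} (hx : g x ≠ x) (hp : g p = p) :
    ((swap p x * g).cycleOf x).support.card = (g.cycleOf x).support.card + 1 ∧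
      (swap p x * g).cycleType =
        ((g.cycleOf x).support.card + 1) ::ₘ g.cycleType.erase (g.cycleOf x).support.card := by
  have hxp : p ≠ x := fun h => hx (h ▸ hp)
  set c := g.cycleOf x with hc
  set r := g * c⁻¹ with hr
  have hcmem : c ∈ g.cycleFactorsFinset := cycleOf_mem_cycleFactorsFinset_iff.mpr (mem_support.mpr hx)
  have hdis : Disjoint r c := disjoint_mul_inv_of_mem_cycleFactorsFinset hcmem
  have hgrc : g = r * c := by rw [hr, inv_mul_cancel_right]
  have hgct : g.cycleType = r.cycleType + c.cycleType := by rw [hgrc, hdis.cycleType_mul]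
  have hcyc : c.IsCycle := isCycle_cycleOf g hx
  have hcct : c.cycleType = {c.support.card} := hcyc.cycleType
  have hrx : r x = x := by
    rcases hdis x with h | h
    · exact h
    · exact absurd (by rw [← cycleOf_apply_self g x]; exact h) hx
  have hcp : c p = p := by
    by_contra h
    exact (mem_support.mp (support_cycleOf_le g x (mem_support.mpr h))) hp
  have hrp : r p = p := by
    rw [hr, mul_apply, Perm.inv_eq_iff_eq.mpr hcp.symm, hp]
  -- the enlarged cycle
  obtain ⟨l, hl⟩ : ∃ l, g.toList x = x :: l := by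
    cases h : g.toList x with
    | nil => exact absurd (toList_eq_nil_iff.mp h) (not_not.mpr (mem_support.mpr hx))
    | cons a l =>
      have h0 : (g.toList x)[0]'(by rw [h]; exact Nat.succ_pos _) = x := toList_getElem_zero g x (mem_support.mpr hx)
      simp only [h, List.getElem_cons_zero] at h0
      exact ⟨l, by rw [h0]⟩
  have hpl : p ∉ x :: l := fun h => by
    rw [← hl, mem_toList_iff] at h
    exact mem_support.mp (h.1.mem_support_iff.mp h.2) hp
  have hnd : (p :: x :: l).Nodup := List.nodup_cons.mpr ⟨hpl, hl ▸ nodup_toList g x⟩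
  have hform : swap p x * c = (p :: x :: l).formPerm := by
    rw [List.formPerm_cons_cons, ← hl, formPerm_toList]
  have hlen : (p :: x :: l).length = c.support.card + 1 := by
    rw [List.length_cons, ← hl, length_toList]
  have hc' : (swap p x * c).IsCycle := by
    rw [hform]; exact List.isCycle_formPerm hnd (by simp)
  have hcard : (swap p x * c).support.card = c.support.card + 1 := by
    rw [hform, List.support_formPerm_of_nodup _ hnd (by simp), List.toFinset_card_of_nodup hnd, hlen]
  have hdis' : Disjoint r (swap p x * c) := by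
    intro y
    rcases eq_or_ne y p with rfl | hyp
    · exact .inl hrp
    rcases eq_or_ne y x with rfl | hyx
    · exact .inl hrx
    rcases hdis y with h | h
    · exact .inl h
    · exact .inr (by rw [mul_apply, h, swap_apply_of_ne_of_ne hyp hyx])
  have hnew : swap p x * g = r * (swap p x * c) := by
    have hcomm : Commute (swap p x) r := by
      refine Disjoint.commute fun y => ?_
      rcases eq_or_ne y p with rfl | hyp
      · exact .inr hrp
      rcases eq_or_ne y x with rfl | hyx
      · exact .inr hrx
      exact .inl (swap_apply_of_ne_of_ne hyp hyx)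
    rw [hgrc, ← mul_assoc, hcomm.eq, mul_assoc]
  refine ⟨?_, ?_⟩
  · have hxs : (swap p x * c) x ≠ x := by
      intro h
      have h2 : x ∉ (swap p x * c).support := notMem_support.mpr h
      rw [hform, List.support_formPerm_of_nodup _ hnd (by simp)] at h2
      simp at h2
    rw [hnew, hdis'.commute.eq, cycleOf_mul_of_apply_right_eq_self hdis'.commute.symm x hrx,
      hc'.cycleOf_eq hxs, hcard]
  · rw [hnew, hdis'.cycleType_mul, hc'.cycleType, hcard, hgct, hcct, add_comm r.cycleType,
      add_comm r.cycleType, Multiset.singleton_add, Multiset.singleton_add, Multiset.erase_cons_head]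

end Insert

/-- Transport of permutations along an embedding. -/
noncomputable def ext {m n : ℕ} (f : Fin m ↪ Fin n) : Perm (Fin m) →* Perm (Fin n) :=
  extendDomainHom f.toEquivRange

theorem ext_apply {m n : ℕ} (f : Fin m ↪ Fin n) (σ : Perm (Fin m)) (a : Fin m) :
    ext f σ (f a) = f (σ a) := by
  have h := extendDomain_apply_image σ f.toEquivRange a
  simpa [ext] using h

theorem ext_apply_of_notMem {m n : ℕ} (f : Fin m ↪ Fin n) (σ : Perm (Fin m)) {a : Fin n}
    (h : a ∉ Set.range f) : ext f σ a = a :=
  extendDomain_apply_not_subtype σ f.toEquivRange h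

theorem ext_cycleType {m n : ℕ} (f : Fin m ↪ Fin n) (σ : Perm (Fin m)) :
    (ext f σ).cycleType = σ.cycleType :=
  cycleType_extendDomain f.toEquivRange

theorem ext_cycleOf_card {m n : ℕ} (f : Fin m ↪ Fin n) (σ : Perm (Fin m)) (a : Fin m) :
    ((ext f σ).cycleOf (f a)).support.card = (σ.cycleOf a).support.card := by
  by_cases ha : σ a = a
  · rw [(cycleOf_eq_one_iff _).mpr ha, (cycleOf_eq_one_iff _).mpr (by rw [ext_apply, ha])]
    simp
  · have h1 : ext f σ = ext f (σ * (σ.cycleOf a)⁻¹) * ext f (σ.cycleOf a) := by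
      rw [← map_mul, inv_mul_cancel_right]
    have hd : Disjoint (σ * (σ.cycleOf a)⁻¹) (σ.cycleOf a) :=
      disjoint_mul_inv_of_mem_cycleFactorsFinset (cycleOf_mem_cycleFactorsFinset_iff.mpr (mem_support.mpr ha))
    have hd' : Disjoint (ext f (σ * (σ.cycleOf a)⁻¹)) (ext f (σ.cycleOf a)) := hd.extendDomain f.toEquivRange
    have hcyc : (ext f (σ.cycleOf a)).IsCycle := (isCycle_cycleOf σ ha).extendDomain f.toEquivRange
    have hfix : ext f (σ * (σ.cycleOf a)⁻¹) (f a) = f a := by
      rcases hd a with h | h
      · rw [ext_apply, h]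
      · exact absurd (by rwa [cycleOf_apply_self] at h) ha
    have hmove : ext f (σ.cycleOf a) (f a) ≠ f a := by
      rw [ext_apply, cycleOf_apply_self]
      exact fun h => ha (f.injective h)
    rw [h1, hd'.commute.eq, cycleOf_mul_of_apply_right_eq_self hd'.commute.symm _ hfix,
      hcyc.cycleOf_eq hmove]
    exact card_support_extend_domain f.toEquivRange

/-- A factorisation with a marked point fixed by the right factor. -/
structure Marked (n k : ℕ) (R S₁ S₂ : Multiset ℕ) where
  u : Perm (Fin n)
  v : Perm (Fin n)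
  z : Fin n
  hz : v z = z
  hmove : (u * v) z ≠ z
  hlen : ((u * v).cycleOf z).support.card = k
  hg : (u * v).cycleType = k ::ₘ R
  hu : u.cycleType = S₁
  hv : v.cycleType = S₂

/-- A point of a two-cycle away from the marked one, fixed by the left factor. -/
def Side {n k : ℕ} {R S₁ S₂ : Multiset ℕ} (D : Marked n k R S₁ S₂) (y : Fin n) : Prop :=
  D.u y = y ∧ (D.u * D.v) y ≠ y ∧ (D.u * D.v) ((D.u * D.v) y) = y ∧ y ≠ D.z ∧ (D.u * D.v) y ≠ D.z

theorem step {n k : ℕ} {R S₁ S₂ : Multiset ℕ} (D : Marked n k R S₁ S₂) :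
    ∃ D' : Marked (n + 2) (k + 2) R (2 ::ₘ S₁) (2 ::ₘ S₂), ∀ y, Side D y → ∃ y', Side D' y' := by
  let f : Fin n ↪ Fin (n + 2) := Fin.castAddEmb 2
  let p : Fin (n + 2) := ⟨n + 1, by omega⟩
  let q : Fin (n + 2) := ⟨n, by omega⟩
  have hf : ∀ a, (f a : ℕ) = a := fun a => rfl
  have hpq : p ≠ q := by simp [p, q, Fin.ext_iff]
  have hfp : ∀ a, f a ≠ p := fun a h => by
    have := congrArg Fin.val h; have := a.2; simp only [hf, p] at *; omega
  have hfq : ∀ a, f a ≠ q := fun a h => by
    have := congrArg Fin.val h; have := a.2; simp only [hf, q] at *; omega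
  have hp : p ∉ Set.range f := fun ⟨a, ha⟩ => hfp a ha
  have hq : q ∉ Set.range f := fun ⟨a, ha⟩ => hfq a ha
  obtain ⟨u, v, z, hz, hmove, hlen, hg, hu, hv⟩ := D
  set U := ext f u with hU
  set V := ext f v with hV
  set x := (u * v) z with hx
  have hUV : U * V = ext f (u * v) := (map_mul _ _ _).symm
  have hUz : U (f z) = f x := by rw [hU, ext_apply, hx, mul_apply, hz]
  have hUq : U q = q := ext_apply_of_notMem f u hq
  have hUp : U p = p := ext_apply_of_notMem f u hp
  have hVq : V q = q := ext_apply_of_notMem f v hq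
  have hVp : V p = p := ext_apply_of_notMem f v hp
  have hVz : V (f z) = f z := by rw [hV, ext_apply, hz]
  have hprod : (swap p q * U) * (swap (f z) q * V) = swap p q * (swap q (f x) * (U * V)) := by
    have h : U * swap (f z) q = swap q (f x) * U := by
      rw [mul_swap_eq_swap_mul, hUz, hUq, swap_comm]
    rw [mul_assoc, ← mul_assoc U, h, mul_assoc]
  have hxmove : (U * V) (f x) ≠ f x := by
    rw [hUV, ext_apply, hx]
    exact fun h => hmove ((u * v).injective (f.injective h))
  obtain ⟨hl1, ht1⟩ := insert_point (g := U * V) (x := f x) (p := q) hxmove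
    (by rw [mul_apply, hVq, hUq])
  have hxk : ((u * v).cycleOf x).support.card = k := by
    rw [hx, cycleOf_self_apply, hlen]
  have hR : (swap q (f x) * (U * V)).cycleType = (k + 1) ::ₘ R := by
    rw [ht1, hUV, ext_cycleType, ext_cycleOf_card, hxk, hg, Multiset.erase_cons_head]
  set g1 := swap q (f x) * (U * V) with hg1
  have hg1z : g1 (f z) = q := by
    rw [hg1, mul_apply, hUV, ext_apply, ← hx, swap_apply_right]
  have hg1q : g1 q = f x := by rw [hg1, mul_apply, mul_apply, hVq, hUq, swap_apply_left]
  have hg1p : g1 p = p := by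
    rw [hg1, mul_apply, mul_apply, hVp, hUp, swap_apply_of_ne_of_ne hpq (hfp x).symm]
  have hg1qk : (g1.cycleOf q).support.card = k + 1 := by
    have h : SameCycle g1 q (f x) := ⟨1, by rw [zpow_one, hg1q]⟩
    rw [h.cycleOf_eq, hl1, hUV, ext_cycleOf_card, hxk]
  obtain ⟨hl2, ht2⟩ := insert_point (g := g1) (x := q) (p := p) (by rw [hg1q]; exact hfq x) hg1p
  have hlast : (swap p q * g1) p = q := by rw [mul_apply, hg1p, swap_apply_left]
  refine ⟨⟨swap p q * U, swap (f z) q * V, p, ?_, ?_, ?_, ?_, ?_, ?_⟩, ?_⟩
  · rw [mul_apply, hVp, swap_apply_of_ne_of_ne (hfp z).symm hpq]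
  · rw [hprod, hlast]; exact hpq.symm
  · have h : SameCycle (swap p q * g1) p q := ⟨1, by rw [zpow_one, hlast]⟩
    rw [hprod, h.cycleOf_eq, hl2, hg1qk]
  · rw [hprod, ht2, hg1qk, hR, Multiset.erase_cons_head]
  · have hd : Disjoint (swap p q) U := fun y => by
      rcases eq_or_ne y p with rfl | h1
      · exact .inr hUp
      rcases eq_or_ne y q with rfl | h2
      · exact .inr hUq
      exact .inl (swap_apply_of_ne_of_ne h1 h2)
    rw [hd.cycleType_mul, (isCycle_swap hpq).cycleType, card_support_swap hpq, hU, ext_cycleType, hu,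
      Multiset.singleton_add]
  · have hd : Disjoint (swap (f z) q) V := fun y => by
      rcases eq_or_ne y (f z) with rfl | h1
      · exact .inr hVz
      rcases eq_or_ne y q with rfl | h2
      · exact .inr hVq
      exact .inl (swap_apply_of_ne_of_ne h1 h2)
    rw [hd.cycleType_mul, (isCycle_swap (hfq z)).cycleType, card_support_swap (hfq z), hV, ext_cycleType, hv,
      Multiset.singleton_add]
  · rintro y ⟨hy1, hy2, hy3, hy4, hy5⟩
    simp only at hy1 hy2 hy3 hy4 hy5
    have key : ∀ w, (u * v) w ≠ x → (swap p q * g1) (f w) = f ((u * v) w) := fun w hw => by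
      rw [mul_apply, hg1, mul_apply, hUV, ext_apply,
        swap_apply_of_ne_of_ne (hfq _) (fun h => hw (f.injective h)),
        swap_apply_of_ne_of_ne (hfp _) (hfq _)]
    have k1 : (u * v) y ≠ x := fun h => hy4 ((u * v).injective h)
    have k2 : (u * v) ((u * v) y) ≠ x := fun h => hy5 ((u * v).injective h)
    refine ⟨f y, ?_, ?_, ?_, hfp y, ?_⟩
    · show (swap p q * U) (f y) = f y
      rw [mul_apply, hU, ext_apply, hy1, swap_apply_of_ne_of_ne (hfp _) (hfq _)]
    · show ((swap p q * U) * (swap (f z) q * V)) (f y) ≠ f y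
      rw [hprod, key y k1]
      exact fun h => hy2 (f.injective h)
    · show ((swap p q * U) * (swap (f z) q * V)) (((swap p q * U) * (swap (f z) q * V)) (f y)) = f y
      rw [hprod, key y k1, key _ k2, hy3]
    · show ((swap p q * U) * (swap (f z) q * V)) (f y) ≠ p
      rw [hprod, key y k1]
      exact hfp _

end CfsgLib.AltCoverComm
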